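import Groth.Agent.RichLib.FibreMore
import Groth.Agent.RichLib.FibreProper
import Groth.Agent.LimAmpleLib.RelAmple
import Groth.Agent.PicRepLib.Lft
import Groth.Prelude.Def_RelProj

/-!
# Quasi-projectivity descends along affine limits; loci of quasi-projective fibres
-/

set_option autoImplicit false
set_option maxHeartbeats 1000000
set_option linter.style.haveILetI false
set_option backward.isDefEq.respectTransparency false

universe u

open CategoryTheory CategoryTheory.Limits AlgebraicGeometry TopologicalSpace RichLib.LimBC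
open KFlatLib (pb)
open RichLib.Strata (fib)

noncomputable section

namespace QProjLociLib

/-- quasi-projective morphisms -/
def qpProp : MorphismProperty Scheme.{u} := fun _ _ f => RelProj.IsQuasiProjective f

theorem qpProp_of_isPullback {X' X Y' Y : Scheme.{u}} {q : X' ⟶ X} {f' : X' ⟶ Y'} {f : X ⟶ Y} {g : Y' ⟶ Y}
    (sq : IsPullback q f' f g) (hf : qpProp f) : qpProp f' := by
  obtain ⟨h1, h2, L, hL⟩ := hf
  haveI := h1
  haveI := h2
  exact ⟨MorphismProperty.of_isPullback sq h1, MorphismProperty.of_isPullback sq h2, pb q L,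
    LimAmpleLib.relAmple_baseChange' sq hL⟩

instance : (qpProp.{u}).IsStableUnderBaseChange := ⟨fun sq hf => qpProp_of_isPullback sq hf⟩

/-- The part of a system above one of its stages. -/
def above {I : Type u} [SmallCategory I] [IsCofiltered I] {S : Scheme.{u}} (B : Sys I S) (i₀ : I) :
    Sys (Over i₀) (B.D.obj i₀) where
  D := Over.forget i₀ ⋙ B.D
  t j := B.D.map j.hom
  w a := by
    show B.D.map a.left ≫ B.D.map _ = B.D.map _
    rw [← B.D.map_comp, Over.w a]
  c := B.c.whisker (Over.forget i₀)
  hc := (Functor.Initial.isLimitWhiskerEquiv (Over.forget i₀) B.c).symm B.hc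
  affine j := B.affine_map j.hom
  s := B.c.π.app i₀
  hs j := B.c.w j.hom

variable {I : Type u} [SmallCategory I] [IsCofiltered I] {S : Scheme.{u}} (B : Sys I S)
  {W : Scheme.{u}} (g : W ⟶ S)

theorem exists_at_qpProp [CompactSpace S] [QuasiSeparatedSpace S] [QuasiCompact g] [QuasiSeparated g]
    [LocallyOfFiniteType g] (h : AtLim B g qpProp) : ∃ i, At B g qpProp i := by
  obtain ⟨-, -, L, hL⟩ := h
  let C := RichLib.LimBC.pb B g
  haveI : CompactSpace W := QuasiCompact.compactSpace_of_compactSpace g
  haveI : QuasiSeparatedSpace W := quasiSeparatedSpace_of_quasiSeparated g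
  obtain ⟨i, Li, hLi, ⟨e⟩⟩ := PicRepLib.exists_invertible_stage C (M := L)
    (MiscFlat6.invertible_of_relAmple hL)
  haveI : CompactSpace (B.D.obj i) := B.compactSpace_obj i
  let f₀ := pullback.snd g (B.t i)
  have hX : IsPullback (C.c.π.app i) (pullback.snd g B.s) f₀ (B.c.π.app i) := by
    refine IsPullback.of_right ?_ (pbπ_snd B g i) (IsPullback.of_hasPullback g (B.t i))
    rw [B.hs i]
    have e1 : C.c.π.app i ≫ pullback.fst g (B.t i) = pullback.fst g B.s := pbπ_fst B g i
    erw [e1]
    exact IsPullback.of_hasPullback g B.s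
  have hR : RelAmple.IsRelAmple (pullback.snd g B.s) (pb (C.c.π.app i) Li) :=
    LimAmpleLib.relAmple_of_iso _ e.symm (AmpleDevLib.isInvertible_pb _ hLi) hL
  obtain ⟨j, hj⟩ := LimAmpleLib.exists_relAmple_stage (above B i) f₀ hLi (f := pullback.snd g B.s) hX hR
  replace hj : RelAmple.IsRelAmple (pullback.snd f₀ (B.D.map j.hom))
      (pb (pullback.fst f₀ (B.D.map j.hom)) Li) := hj
  refine ⟨j.left, qpProp_of_isPullback (q := pullback.lift (pbMap B g j.hom) (pullback.snd g (B.t j.left))
    (pbMap_snd B g j.hom)) (f := pullback.snd f₀ (B.D.map j.hom)) (g := 𝟙 _) ?_ ⟨inferInstance, inferInstance, _, hj⟩⟩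
  have hsq : IsPullback (pbMap B g j.hom) (pullback.snd g (B.t j.left)) f₀ (B.D.map j.hom) := by
    refine IsPullback.of_right ?_ (pbMap_snd B g j.hom) (IsPullback.of_hasPullback g (B.t i))
    rw [pbMap_fst B g j.hom, B.w j.hom]
    exact IsPullback.of_hasPullback g (B.t j.left)
  refine IsPullback.of_right ?_ ?_ (IsPullback.of_hasPullback f₀ (B.D.map j.hom))
  · rw [pullback.lift_fst, Category.id_comp]
    exact hsq
  · rw [pullback.lift_snd, Category.comp_id]

theorem isIndConstructible_loc_qpProp {X Y S : Scheme.{u}} (f : X ⟶ Y) (g : Y ⟶ S)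
    [LocallyOfFinitePresentation g] [QuasiCompact g] [QuasiSeparated g]
    [LocallyOfFinitePresentation (f ≫ g)] [QuasiCompact (f ≫ g)] [QuasiSeparated (f ≫ g)] :
    ProCons.IsIndConstructible (RichLib.Strata.loc f g qpProp) := by
  haveI : QuasiCompact f := .of_comp f g
  haveI : QuasiSeparated f := .of_comp f g
  haveI : LocallyOfFiniteType f := locallyOfFiniteType_of_comp f g
  refine RichLib.FibreLoci.isIndConstructible_loc f g _ fun {T} _ ι _ _ _ _ B hB => ?_
  haveI : CompactSpace ↥(pullback g ι) := QuasiCompact.compactSpace_of_compactSpace (pullback.snd g ι)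
  haveI : QuasiSeparatedSpace ↥(pullback g ι) := quasiSeparatedSpace_of_quasiSeparated (pullback.snd g ι)
  exact exists_at_qpProp B _ hB

theorem main {X Y S : Scheme.{u}} (f : X ⟶ Y) (g : Y ⟶ S)
    [LocallyOfFinitePresentation g] [QuasiCompact g] [QuasiSeparated g]
    [LocallyOfFinitePresentation (f ≫ g)] [QuasiCompact (f ≫ g)] [QuasiSeparated (f ≫ g)] :
    ProCons.IsIndConstructible {s : S |
      RelProj.IsQuasiProjective
        (pullback.lift (pullback.fst (f ≫ g) (S.fromSpecResidueField s) ≫ f) (pullback.snd (f ≫ g) (S.fromSpecResidueField s))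
          ((Category.assoc _ _ _).trans pullback.condition) :
        pullback (f ≫ g) (S.fromSpecResidueField s) ⟶ pullback g (S.fromSpecResidueField s))} := by
  convert isIndConstructible_loc_qpProp f g using 1
  ext s
  exact RichLib.FibreLoci.mem_loc_iff f g qpProp s

end QProjLociLib
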