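import Groth.Agent.QProjLociLib.Main
import Groth.Agent.ConsLib.PairProper
import Groth.Agent.LinSysLib.AmpleProj
import Groth.Agent.RelProjLib.ProjProper
import Groth.Agent.MiscFlat6.RelTwistOne

/-!
# Loci of projective fibres
-/

set_option autoImplicit false
set_option maxHeartbeats 1000000
set_option linter.style.haveILetI false
set_option backward.isDefEq.respectTransparency false

universe u

open CategoryTheory CategoryTheory.Limits AlgebraicGeometry TopologicalSpace RichLib.LimBC
open RichLib.Strata (fib)

noncomputable section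

namespace QProjLociLib

/-- proper quasi-projective morphisms -/
def pqProp : MorphismProperty Scheme.{u} := fun _ _ f => IsProper f ∧ RelProj.IsQuasiProjective f

instance : (pqProp.{u}).IsStableUnderBaseChange :=
  ⟨fun sq hf => ⟨MorphismProperty.of_isPullback sq hf.1, qpProp_of_isPullback sq hf.2⟩⟩

theorem pqProp_iff_isProjective {X Y : Scheme.{u}} (f : X ⟶ Y) [CompactSpace Y] [QuasiSeparatedSpace Y] :
    pqProp f ↔ RelProj.IsProjective f := by
  constructor
  · rintro ⟨h, -, -, L, hL⟩
    haveI := h
    exact LinSysLib.isProjective_of_isRelAmple f hL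
  · exact fun h => ⟨RelProjLib.isProper_of_isProjective h, (MiscFlat6.isQuasiProjective_of_isProjective h).1⟩

variable {I : Type u} [SmallCategory I] [IsCofiltered I] {S : Scheme.{u}} (B : Sys I S)
  {W : Scheme.{u}} (g : W ⟶ S)

theorem exists_at_pqProp [CompactSpace S] [QuasiSeparatedSpace S] [QuasiCompact g] [QuasiSeparated g]
    [LocallyOfFiniteType g] (h : AtLim B g pqProp) : ∃ i, At B g pqProp i := by
  obtain ⟨i, hi⟩ := ConsLib.exists_at_isProper B g h.1
  obtain ⟨j, hj⟩ := exists_at_qpProp B g h.2
  refine ⟨IsCofiltered.min i j, ?_, ?_⟩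
  · exact at_of_hom B g (IsCofiltered.minToLeft i j) hi
  · exact at_of_hom B g (IsCofiltered.minToRight i j) hj

theorem isIndConstructible_loc_pqProp {X Y S : Scheme.{u}} (f : X ⟶ Y) (g : Y ⟶ S)
    [LocallyOfFinitePresentation g] [QuasiCompact g] [QuasiSeparated g]
    [LocallyOfFinitePresentation (f ≫ g)] [QuasiCompact (f ≫ g)] [QuasiSeparated (f ≫ g)] :
    ProCons.IsIndConstructible (RichLib.Strata.loc f g pqProp) := by
  haveI : QuasiCompact f := .of_comp f g
  haveI : QuasiSeparated f := .of_comp f g
  haveI : LocallyOfFiniteType f := locallyOfFiniteType_of_comp f g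
  refine RichLib.FibreLoci.isIndConstructible_loc f g _ fun {T} _ ι _ _ _ _ B hB => ?_
  haveI : CompactSpace ↥(pullback g ι) := QuasiCompact.compactSpace_of_compactSpace (pullback.snd g ι)
  haveI : QuasiSeparatedSpace ↥(pullback g ι) := quasiSeparatedSpace_of_quasiSeparated (pullback.snd g ι)
  exact exists_at_pqProp B _ hB

theorem mainProj {X Y S : Scheme.{u}} (f : X ⟶ Y) (g : Y ⟶ S)
    [LocallyOfFinitePresentation g] [QuasiCompact g] [QuasiSeparated g]
    [LocallyOfFinitePresentation (f ≫ g)] [QuasiCompact (f ≫ g)] [QuasiSeparated (f ≫ g)] :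
    ProCons.IsIndConstructible {s : S |
      RelProj.IsProjective
        (pullback.lift (pullback.fst (f ≫ g) (S.fromSpecResidueField s) ≫ f) (pullback.snd (f ≫ g) (S.fromSpecResidueField s))
          ((Category.assoc _ _ _).trans pullback.condition) :
        pullback (f ≫ g) (S.fromSpecResidueField s) ⟶ pullback g (S.fromSpecResidueField s))} := by
  convert isIndConstructible_loc_pqProp f g using 1
  ext s
  haveI : CompactSpace ↥(pullback g (S.fromSpecResidueField s)) :=
    QuasiCompact.compactSpace_of_compactSpace (pullback.snd g (S.fromSpecResidueField s))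
  haveI : QuasiSeparatedSpace ↥(pullback g (S.fromSpecResidueField s)) :=
    quasiSeparatedSpace_of_quasiSeparated (pullback.snd g (S.fromSpecResidueField s))
  refine Iff.trans (pqProp_iff_isProjective _).symm ?_
  exact RichLib.FibreLoci.mem_loc_iff f g pqProp s

end QProjLociLib
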